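import Cfsg.Agent.Lib.Helper92.PJ.Nets

/-!
# The Janko group J1 on 266 points: relators, stabilizer chain, suborbits (helper92)
-/

set_option autoImplicit false

namespace Cfsg.Agent.Lib.Helper92.PJ
open Cfsg.Agent.Lib.Helper92.VecPerm

/-- the relators (words in the five involutions `0, …, 4`) -/
def rels : List (List ℕ) :=
  [[0, 0], [1, 1], [2, 2], [3, 3], [0, 1, 0, 1, 0, 1], [1, 2, 1, 2, 1, 2, 1, 2, 1, 2], [2, 3, 2, 3, 2, 3], [0, 2, 0, 2], [0, 3, 0, 3], [1, 3, 1, 3], [0, 1, 2, 0, 1, 2, 0, 1, 2, 0, 1, 2, 0, 1, 2], [1, 2, 3, 1, 2, 3, 1, 2, 3, 1, 2, 3, 1, 2, 3], [4, 4], [0, 4, 0, 4], [1, 4, 1, 4], [2, 4, 2, 4], [3, 4, 3, 4, 3, 4, 3, 4, 3, 4], [0, 2, 3, 4, 3, 4, 0, 2, 3, 4, 3, 4, 0, 2, 3, 4, 3, 4]]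

set_option maxRecDepth 100000 in
theorem chk_rels : rels.all (fun w => eqCheck nets 9 w.reverse []) = true := by decide +kernel

/-- generators of (a subgroup of) the stabilizer of the point 0 -/
def gens1 : List (List ℕ) := [[0], [1], [2], [3]]

/-- generators of (a subgroup of) the stabilizer of the points 0, 1 -/
def gens2 : List (List ℕ) := [[2, 3, 1, 2], [3, 0, 1, 0]]

/-- generators of (a subgroup of) the stabilizer of the points 0, 1, 2 -/
def gens3 : List (List ℕ) := []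

set_option maxRecDepth 100000 in
theorem chk_fix1 : gens1.all (fun w => Nat.beq (wordV nets w (2 ^ 0)) (2 ^ 0)) = true := by decide +kernel

set_option maxRecDepth 100000 in
theorem chk_fix2 : gens2.all (fun w => Nat.beq (wordV nets w (2 ^ 0)) (2 ^ 0) &&
    Nat.beq (wordV nets w (2 ^ 1)) (2 ^ 1)) = true := by decide +kernel

set_option maxRecDepth 100000 in
theorem chk_fix3 : gens3.all (fun w => Nat.beq (wordV nets w (2 ^ 0)) (2 ^ 0) &&
    (Nat.beq (wordV nets w (2 ^ 1)) (2 ^ 1) && Nat.beq (wordV nets w (2 ^ 2)) (2 ^ 2))) = true := by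
  decide +kernel

set_option maxRecDepth 100000 in
theorem chk_pres : presCheckG nets [0, 1, 2, 3, 4] 266 = true := by decide +kernel

set_option maxRecDepth 100000 in
theorem chk_orbit : orbitCheck nets [0, 1, 2, 3, 4] 17 266 = true := by decide +kernel

/-- seeds of the orbits of the stabilizer of 0 -/
def seedOf : ℕ → ℕ
  | 0 => 0 | 1 => 1 | 2 => 2 | 3 => 8 | _ => 37

/-- numbers of rounds that exhaust the orbits -/
def roundsOf : ℕ → ℕ
  | 0 => 0 | 1 => 11 | 2 => 9 | 3 => 5 | _ => 4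

/-- lengths of the orbits -/
def szOf : ℕ → ℕ
  | 0 => 1 | 1 => 110 | 2 => 132 | 3 => 11 | _ => 12

/-- the masks of the orbits -/
noncomputable def msk (j : ℕ) : ℕ := reachFromW nets gens1 (2 ^ seedOf j) (roundsOf j)

/-- orbit of 2 under the stabilizer of 0, 1 -/
noncomputable def mskC : ℕ := reachFromW nets gens2 (2 ^ 2) 4

/-- orbit of 3 under the stabilizer of 0, 1, 2 -/
noncomputable def mskD : ℕ := reachFromW nets gens3 (2 ^ 3) 0

set_option maxRecDepth 100000 in
theorem chk_cover : coverCheckG (Nat.lor (msk 0) (Nat.lor (msk 1) (Nat.lor (msk 2) (Nat.lor (msk 3) (msk 4))))) 266 = true := by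
  decide +kernel

set_option maxRecDepth 100000 in
theorem chk_disj : (List.range 5).all (fun i => (List.range 5).all (fun j =>
    Nat.beq i j || Nat.beq (Nat.land (msk i) (msk j)) 0)) = true := by
  decide +kernel

set_option maxRecDepth 100000 in
theorem chk_pop : (List.range 5).all (fun j => Nat.beq (popTop (msk j) 266) (szOf j)) = true := by
  decide +kernel

set_option maxRecDepth 100000 in
theorem chk_popC : popTop mskC 266 = 6 := by decide +kernel

set_option maxRecDepth 100000 in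
theorem chk_popD : popTop mskD 266 = 1 := by decide +kernel

set_option maxRecDepth 100000 in
theorem msk_zero : msk 0 = 1 := by decide +kernel

/-- a word of order 19 (acting order) -/
def g0w : List ℕ := [0, 1, 2, 3, 4]

/-- its 19-th power, as a product -/
def g0pw : List ℕ := [4, 3, 2, 1, 0, 4, 3, 2, 1, 0, 4, 3, 2, 1, 0, 4, 3, 2, 1, 0, 4, 3, 2, 1, 0, 4, 3, 2, 1, 0, 4, 3, 2, 1, 0, 4, 3, 2, 1, 0, 4, 3, 2, 1, 0, 4, 3, 2, 1, 0, 4, 3, 2, 1, 0, 4, 3, 2, 1, 0, 4, 3, 2, 1, 0, 4, 3, 2, 1, 0, 4, 3, 2, 1, 0, 4, 3, 2, 1, 0, 4, 3, 2, 1, 0, 4, 3, 2, 1, 0, 4, 3, 2, 1, 0]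

set_option maxRecDepth 100000 in
theorem chk_g0 : eqCheck nets 9 g0pw [] = true := by decide +kernel

end Cfsg.Agent.Lib.Helper92.PJ
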