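import Cfsg.Agent.Lib.Helper92.PJ.Act
import Cfsg.Agent.Lib.Helper92.PresGen

/-!
# The Janko group J1 as a presented group on five involutions, acting on 266 points (helper92)
-/

set_option autoImplicit false

namespace Cfsg.Agent.Lib.Helper92.PJ
open Cfsg.Agent.Lib.Helper92.VecPerm
open Cfsg.Agent.Lib.Helper92.TCert
open Cfsg.Agent.Lib.Helper92.PresGen

/-- the letters in the free group -/
def fl (x : ℕ) : FreeGroup (Fin 5) := if h : x < 5 then FreeGroup.of ⟨x, h⟩ else 1

/-- the set of relators -/
def relSet : Set (FreeGroup (Fin 5)) := {r | ∃ w ∈ rels, r = evr fl w}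

/-- the presented group -/
abbrev PG : Type := PresentedGroup relSet

/-- the permutation of letter `x` -/
noncomputable def gp (x : ℕ) : Equiv.Perm ℕ := netPerm (nets x) (netsOK x)

theorem rels_lt : ∀ w ∈ rels, ∀ x ∈ w, x < 5 := by decide

theorem lift_fl (x : ℕ) (hx : x < 5) :
    FreeGroup.lift (fun i : Fin 5 => gp i.val) (fl x) = gp x := by
  unfold fl; rw [dif_pos hx, FreeGroup.lift_apply_of]

theorem wordPerm_eq_prod (w : List ℕ) : wordPerm netsOK w = (w.map gp).prod := rfl

theorem lift_rel (r : FreeGroup (Fin 5)) (hr : r ∈ relSet) :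
    FreeGroup.lift (fun i : Fin 5 => gp i.val) r = 1 := by
  obtain ⟨w, hw, rfl⟩ := hr
  rw [← evr_map (FreeGroup.lift (fun i : Fin 5 => gp i.val)) fl w,
    evr_congr _ gp w (fun x hx => lift_fl x (rels_lt w hw x hx)), evr_eq_prod, ← wordPerm_eq_prod]
  have h := chk_rels
  rw [List.all_eq_true] at h
  have h2 := wordPerm_eq_of_check netsOK (by norm_num) (h w hw)
  rw [h2]; rfl

/-- the action of the presented group on `ℕ` -/
noncomputable def phi : PG →* Equiv.Perm ℕ :=
  PresentedGroup.toGroup (f := fun i : Fin 5 => gp i.val) lift_rel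

theorem phi_of (i : Fin 5) : phi (PresentedGroup.of i) = gp i.val := PresentedGroup.toGroup.of _

end Cfsg.Agent.Lib.Helper92.PJ
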